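import Cfsg.Agent.Lib.SEBender.Unitary
import Cfsg.Agent.Lib.SEBrick.Basic
import Cfsg.Agent.Lib.SETrans.TwoCore

/-!
# The unitary outcome without odd normal subgroups
-/

set_option autoImplicit false
set_option linter.style.haveILetI false

namespace Cfsg.Agent.SEBender

universe u w

variable {G : Type u} [Group G] [Finite G] {H : Subgroup G}

/-- The core of a strongly embedded subgroup has odd order. -/
theorem odd_normalCore (hH : Cfsg.IsStronglyEmbedded H) : Odd (Nat.card H.normalCore) := by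
  obtain ⟨g, hg⟩ : ∃ g : G, g ∉ H := by
    by_contra h
    push Not at h
    exact hH.1 (eq_top_iff.2 fun g _ => h g)
  refine (hH.2.2 g hg).of_dvd_nat (Subgroup.card_dvd_of_le ?_)
  intro x hx
  refine ⟨Subgroup.normalCore_le H hx, g⁻¹ * x * g, ?_, by simp [mul_assoc]⟩
  have h := (Subgroup.normalCore_normal H).conj_mem x hx g⁻¹
  rw [inv_inv] at h
  exact Subgroup.normalCore_le H h

/-- A strongly embedded subgroup of a group without odd normal subgroups has core one. -/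
theorem normalCore_eq_bot (hH : Cfsg.IsStronglyEmbedded H) (hO : Cfsg.oddCore G = ⊥) : H.normalCore = ⊥ :=
  le_bot_iff.1 (hO ▸ SEBrick.le_oddCore (Subgroup.normalCore_normal H) (odd_normalCore hH))

/-- Two distinct involutions in a strongly embedded subgroup, from two in the group. -/
theorem exists_two_mem (hH : Cfsg.IsStronglyEmbedded H) {s t : G} (hs : orderOf s = 2) (ht : orderOf t = 2)
    (hne : s ≠ t) (hc : s * t = t * s) :
    ∃ s' t' : G, s' ∈ H ∧ t' ∈ H ∧ orderOf s' = 2 ∧ orderOf t' = 2 ∧ s' ≠ t' := by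
  obtain ⟨z, hzH, hz⟩ := Invol.exists_invol hH.2.1
  obtain ⟨g, hg⟩ := isConj_iff.1 (Invol.se_isConj hH hs hz)
  refine ⟨z, g * t * g⁻¹, hzH, ?_, hz, (Invol.order_conj g t).trans ht, fun e => hne ?_⟩
  · refine Invol.se_centralizer_le hH hz hzH (Subgroup.mem_centralizer_singleton_iff.2 ?_)
    rw [← hg]
    calc g * t * g⁻¹ * (g * s * g⁻¹) = g * (t * s) * g⁻¹ := by group
      _ = g * (s * t) * g⁻¹ := by rw [hc]
      _ = g * s * g⁻¹ * (g * t * g⁻¹) := by group
  · rw [← hg] at e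
    simpa using e

/-- A soluble strongly embedded subgroup with a non-trivial normal 2-subgroup, in a group without odd normal
subgroups whose Sylow 2-subgroups are those of `PSU(3, 2 ^ n)`. -/
theorem psu_of_se_two (hH : Cfsg.IsStronglyEmbedded H) (hO : Cfsg.oddCore G = ⊥) [Group.IsSolvable H]
    {N : Subgroup G} (hNH : N ≤ H) (hN : IsPGroup 2 N) (hN1 : N ≠ ⊥) (hn' : ∀ g ∈ H, ∀ x ∈ N, g * x * g⁻¹ ∈ N)
    (S : Sylow 2 G) {F : Type w} [Field F] [Fintype F] {n : ℕ} (hn : 2 ≤ n)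
    (hF : Fintype.card F = (2 ^ n) ^ 2) (P : Sylow 2 (Cfsg.PSU 3 F (2 ^ n)))
    (e : Nonempty (↥(S : Subgroup G) ≃* ↥(P : Subgroup (Cfsg.PSU 3 F (2 ^ n))))) :
    ∃ L : Subgroup G, L.Normal ∧ Odd L.index ∧ Nonempty (↥L ≃* Cfsg.PSU 3 F (2 ^ n)) := by
  obtain ⟨f⟩ := id e
  obtain ⟨-, -, hsuz⟩ := Cfsg.Agent.S1141.result hn hF P
  obtain ⟨hiff, -⟩ := Cfsg.Agent.S1137.result hsuz
  obtain ⟨-, -, -, ⟨x, y, hxy, hx, hx2, hy, hy2⟩, -⟩ := hsuz
  have hinv : ∀ z : (P : Subgroup (Cfsg.PSU 3 F (2 ^ n))), z ≠ 1 → z * z = 1 → orderOf ((f.symm z : G)) = 2 :=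
    fun z h1 h2 => by
      rw [Subgroup.orderOf_coe, MulEquiv.orderOf_eq]
      exact Invol.order_two_of_sq h2 h1
  have htwo := exists_two_mem hH (hinv x hx hx2) (hinv y hy hy2)
    (fun h => hxy (f.symm.injective (Subtype.ext h)))
    (by rw [← Subgroup.coe_mul, ← Subgroup.coe_mul, ← map_mul, ← map_mul,
      Subgroup.mem_center_iff.1 ((hiff y).1 ⟨hy, hy2⟩).1 x])
  exact psu_of_se_solvable hH (normalCore_eq_bot hH hO)
    (SETrans.invol_comm_of_normal_two hH hNH hN hN1 hn') htwo S hn hF P e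

end Cfsg.Agent.SEBender
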