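import Cfsg.Agent.Lib.RankOneW.Basic
import Cfsg.Agent.Lib.SERegular.Main
import Cfsg.Agent.S1137
import Cfsg.Agent.S1141
import Cfsg.Prelude.Def_Classical

/-!
# A Sylow 2-subgroup of unitary type puts the rank-one set-up in the cube case
-/

set_option autoImplicit false
set_option linter.style.haveILetI false

namespace Cfsg.Agent.SEBender

open MulAction

variable {G Ω : Type*} [Group G] [Finite G] [MulAction G Ω] {a : Ω} {t : G} {Q : Subgroup G}

/-- In the rank-one set-up with `Q` a 2-group, `Q` is a Sylow 2-subgroup. -/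
theorem exists_sylow_eq (hS : Cfsg.IsRankOneSetup G Ω a t Q) (hP : IsPGroup 2 Q) :
    ∃ S : Sylow 2 G, (S : Subgroup G) = Q := by
  obtain ⟨S, hSQ⟩ := RankOne.sylow_le hS
  exact ⟨S, (S.is_maximal' hP hSQ).symm⟩

/-- If the Sylow 2-subgroups of `G` are those of `PSU(3, 2 ^ n)`, the set-up is a cube with `q = 2 ^ n`. -/
theorem isCube_of_sylow [FaithfulSMul G Ω] (hS : Cfsg.IsRankOneSetup G Ω a t Q)
    (h2 : ∃ x y : G, x ≠ 1 ∧ y ≠ 1 ∧ x ≠ y ∧ x * x = 1 ∧ y * y = 1 ∧ x * y = y * x)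
    (hQ : IsPGroup 2 Q) (S : Sylow 2 G) {F : Type*} [Field F] [Fintype F] {n : ℕ} (hn : 2 ≤ n)
    (hF : Fintype.card F = (2 ^ n) ^ 2) (P : Sylow 2 (Cfsg.PSU 3 F (2 ^ n)))
    (e : Nonempty (↥(S : Subgroup G) ≃* ↥(P : Subgroup (Cfsg.PSU 3 F (2 ^ n))))) :
    RankOne.IsCube a t Q ∧ RankOne.qSize a t = 2 ^ n := by
  classical
  haveI : Fact (Nat.Prime 2) := ⟨Nat.prime_two⟩
  obtain ⟨e⟩ := e
  obtain ⟨hcard, hZ, hsuz⟩ := Cfsg.Agent.S1141.result hn hF P
  obtain ⟨hiff, hsq⟩ := Cfsg.Agent.S1137.result hsuz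
  obtain ⟨-, -, ⟨x, y, hxy⟩, -⟩ := hsuz
  obtain ⟨S₀, hS₀⟩ := exists_sylow_eq hS hQ
  let f : Q ≃* (P : Subgroup (Cfsg.PSU 3 F (2 ^ n))) :=
    (MulEquiv.subgroupCongr hS₀.symm).trans ((S₀.equiv S).trans e)
  have hq : RankOne.qSize a t = 2 ^ n := by
    rw [RankOne.qSize_eq hS h2, ← hZ]
    refine Nat.card_congr
      { toFun := fun z => ⟨f ⟨z, RankOne.invSub_le_Q hS h2 z.2⟩, ?_⟩
        invFun := fun z => ⟨(f.symm z.1 : Q), ?_⟩
        left_inv := fun z => Subtype.ext (by simp)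
        right_inv := fun z => Subtype.ext (by simp) }
    · have h : f ⟨z, RankOne.invSub_le_Q hS h2 z.2⟩ * f ⟨z, RankOne.invSub_le_Q hS h2 z.2⟩ = 1 := by
        rw [← map_mul, ← map_one f]
        exact congrArg f (Subtype.ext (RankOne.invSub_sq hS h2 z.2))
      rcases eq_or_ne (f ⟨z, RankOne.invSub_le_Q hS h2 z.2⟩) 1 with h1 | h1
      · rw [h1]; exact one_mem _
      · exact ((hiff _).1 ⟨h1, h⟩).1
    · refine RankOne.mem_invSub_of_sq hS h2 (f.symm z.1).2 ?_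
      have h : f.symm z.1 * f.symm z.1 = 1 := by rw [← map_mul, hsq z.1 z.2, map_one]
      exact congrArg Subtype.val h
  refine ⟨⟨hQ, ?_, f.symm x, (f.symm x).2, f.symm y, (f.symm y).2, fun h => hxy ?_⟩, hq⟩
  · rw [hq, ← hcard]
    exact Nat.card_congr f.toEquiv
  · apply f.symm.injective
    rw [map_mul, map_mul]
    exact Subtype.ext h

end Cfsg.Agent.SEBender
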