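import Cfsg.Agent.Lib.SEBender.Core
import Cfsg.Agent.S1136

/-!
# Bender's list for strongly embedded subgroups with commuting involutions
-/

set_option autoImplicit false
set_option linter.style.haveILetI false

namespace Cfsg.Agent.SEBender

open MulAction

universe u v

/-- The three families. -/
def IsBender (L : Type u) [Group L] : Prop :=
  (∃ (F : Type) (_ : Field F) (_ : Fintype F), (∃ n : ℕ, 2 ≤ n ∧ Fintype.card F = 2 ^ n) ∧
      Nonempty (L ≃* Matrix.ProjectiveSpecialLinearGroup (Fin 2) F)) ∨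
    Cfsg.Lie.IsoSuzuki L ∨
    ∃ (F : Type) (_ : Field F) (_ : Fintype F) (n : ℕ), 2 ≤ n ∧ Fintype.card F = (2 ^ n) ^ 2 ∧
      Nonempty (L ≃* Cfsg.PSU 3 F (2 ^ n))

variable {G : Type u} [Group G] [Finite G]

theorem bender_of_cfg {Ω : Type v} [MulAction G Ω] [FaithfulSMul G Ω] {a : Ω} (hc : SERegular.Cfg G Ω a)
    (hne : ∃ c : Ω, c ≠ a) : ∃ L : Subgroup G, L.Normal ∧ Odd L.index ∧ IsBender L := by
  obtain ⟨t, Q, hS, -⟩ := SERegular.exists_regular hc hne
  exact Cfsg.Agent.S1136.result hS (exists_commuting hc)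

/-- A soluble strongly embedded subgroup of core one with commuting involutions, at least two of them. -/
theorem bender_of_se_solvable {H : Subgroup G} (hH : Cfsg.IsStronglyEmbedded H) (hcore : H.normalCore = ⊥)
    [Group.IsSolvable H]
    (hcomm : ∀ s t : G, s ∈ H → t ∈ H → orderOf s = 2 → orderOf t = 2 → s * t = t * s)
    (htwo : ∃ s t : G, s ∈ H ∧ t ∈ H ∧ orderOf s = 2 ∧ orderOf t = 2 ∧ s ≠ t) :
    ∃ L : Subgroup G, L.Normal ∧ Odd L.index ∧ IsBender L := by
  haveI : FaithfulSMul G (G ⧸ H) := by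
    refine ⟨fun {g g'} h => ?_⟩
    have hker : g'⁻¹ * g ∈ (MulAction.toPermHom G (G ⧸ H)).ker := by
      rw [MonoidHom.mem_ker]
      refine Equiv.ext fun x => ?_
      show (g'⁻¹ * g) • x = x
      rw [mul_smul, h x, inv_smul_smul]
    rw [← Subgroup.normalCore_eq_ker, hcore, Subgroup.mem_bot, inv_mul_eq_one] at hker
    exact hker.symm
  obtain ⟨g, hg⟩ : ∃ g : G, g ∉ H := by
    by_contra h
    push Not at h
    exact hH.1 (eq_top_iff.2 fun g _ => h g)
  exact bender_of_cfg (SETrans.cfg_of_se_solvable hH hcomm htwo)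
    ⟨(g : G ⧸ H), fun e => hg (by rw [QuotientGroup.eq, mul_one, inv_mem_iff] at e; exact e)⟩

end Cfsg.Agent.SEBender
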