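import Cfsg.Agent.Lib.SEBender.Cube
import Cfsg.Agent.Lib.RankOne.Reduce
import Cfsg.Agent.Lib.RankOneW.CubeUnitary
import Cfsg.Agent.Lib.RankOneW.NoTrivW
import Cfsg.Agent.Lib.RankOneW.PocketElem
import Cfsg.Agent.Lib.RankOneU3.Unitary
import Cfsg.Agent.Lib.SETrans.OddCentral
import Cfsg.Agent.Lib.PSUField.Congr
import Mathlib.FieldTheory.Finite.GaloisField

/-!
# Strongly embedded subgroups with commuting involutions: the unitary outcome

If a finite group has a strongly embedded subgroup whose involutions commute, with centraliser of odd index,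
and Sylow 2-subgroups those of `PSU(3, 2 ^ n)`, it has a normal subgroup of odd index isomorphic to
`PSU(3, 2 ^ n)` once the core of the subgroup is trivial.
-/

set_option autoImplicit false
set_option linter.style.haveILetI false

namespace Cfsg.Agent.SEBender

open MulAction

universe u v w

variable {G : Type u} [Group G] [Finite G]

/-- The group generated by `Q` and `t` in a cube set-up. -/
theorem psu_of_cube {Ω : Type v} [MulAction G Ω] [FaithfulSMul G Ω] {a : Ω} {t : G} {Q : Subgroup G}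
    (hS : Cfsg.IsRankOneSetup G Ω a t Q)
    (h2 : ∃ x y : G, x ≠ 1 ∧ y ≠ 1 ∧ x ≠ y ∧ x * x = 1 ∧ y * y = 1 ∧ x * y = y * x)
    (hC : RankOne.IsCube a t Q) :
    ∃ (F : Type) (_ : Field F) (_ : Fintype F), Fintype.card F = RankOne.qSize a t ^ 2 ∧
      Nonempty (RankOne.qtGroup t Q ≃* Cfsg.PSU 3 F (RankOne.qSize a t)) := by
  haveI : FaithfulSMul (RankOne.qtGroup t Q) Ω :=
    ⟨fun {g g'} h => Subtype.ext (eq_of_smul_eq_smul fun p : Ω => h p)⟩
  have hS' := RankOne.setup_qt hS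
  have h2' := RankOne.exists_commuting_qt hS h2
  have hC' := RankOne.cube_qt hS hC
  have hU := RankOne.unitary_of_top_aux hS' h2' hC' RankOne.qt_top (RankOne.wSub_ne_bot hS' h2' hC')
    fun hq hW hV hexp => RankOne.betaTriv_of_elementary hS' h2' hC'
      (RankOne.rInvol_of_cube hS' h2' hC' (RankOne.wSub_ne_bot hS' h2' hC')) hq hW hV hexp
  obtain ⟨F, iF, iT, hF, ⟨e⟩⟩ := Lib.RankOneU3.recog_of_unitary hS' h2' hU
  rw [RankOne.qSize_qt hS] at hF e
  exact ⟨F, iF, iT, hF, ⟨(Subgroup.topEquiv.symm.trans (MulEquiv.subgroupCongr RankOne.qt_top.symm)).trans e⟩⟩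

/-- A set-up with unitary Sylow 2-subgroups gives a normal unitary subgroup of odd index. -/
theorem psu_of_setup {Ω : Type v} [MulAction G Ω] [FaithfulSMul G Ω] {a : Ω} {t : G} {Q : Subgroup G}
    (hS : Cfsg.IsRankOneSetup G Ω a t Q)
    (h2 : ∃ x y : G, x ≠ 1 ∧ y ≠ 1 ∧ x ≠ y ∧ x * x = 1 ∧ y * y = 1 ∧ x * y = y * x)
    (hQ : IsPGroup 2 Q) (S : Sylow 2 G) {F : Type w} [Field F] [Fintype F] {n : ℕ} (hn : 2 ≤ n)
    (hF : Fintype.card F = (2 ^ n) ^ 2) (P : Sylow 2 (Cfsg.PSU 3 F (2 ^ n)))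
    (e : Nonempty (↥(S : Subgroup G) ≃* ↥(P : Subgroup (Cfsg.PSU 3 F (2 ^ n))))) :
    ∃ N : Subgroup G, N.Normal ∧ Odd N.index ∧ Nonempty (↥N ≃* Cfsg.PSU 3 F (2 ^ n)) := by
  obtain ⟨hC, hq⟩ := isCube_of_sylow hS h2 hQ S hn hF P e
  obtain ⟨F', iF, iT, hF', ⟨f⟩⟩ := psu_of_cube hS h2 hC
  rw [hq] at hF' f
  obtain ⟨g⟩ := PSUField.nonempty_congr (n := 3) (q := 2 ^ n)
    (FiniteField.ringEquivOfCardEq (hF'.trans hF.symm) : F' ≃+* F)
  exact ⟨_, U3Rec.sup_normal hS, U3Rec.sup_odd_index hS, ⟨f.trans g⟩⟩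

/-- Commuting involutions in the setting of the regular normal subgroup step. -/
theorem exists_commuting {Ω : Type v} [MulAction G Ω] {a : Ω} (hc : SERegular.Cfg G Ω a) :
    ∃ x y : G, x ≠ 1 ∧ y ≠ 1 ∧ x ≠ y ∧ x * x = 1 ∧ y * y = 1 ∧ x * y = y * x := by
  obtain ⟨x, y, hx, hy, hxa, hya, hne⟩ := hc.four
  exact ⟨x, y, Invol.ne_one hx, Invol.ne_one hy, hne, Invol.mul_self hx, Invol.mul_self hy,
    hc.comm x y hx hy hxa hya⟩

theorem psu_of_cfg {Ω : Type v} [MulAction G Ω] [FaithfulSMul G Ω] {a : Ω} (hc : SERegular.Cfg G Ω a)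
    (hne : ∃ c : Ω, c ≠ a) (S : Sylow 2 G) {F : Type w} [Field F] [Fintype F] {n : ℕ} (hn : 2 ≤ n)
    (hF : Fintype.card F = (2 ^ n) ^ 2) (P : Sylow 2 (Cfsg.PSU 3 F (2 ^ n)))
    (e : Nonempty (↥(S : Subgroup G) ≃* ↥(P : Subgroup (Cfsg.PSU 3 F (2 ^ n))))) :
    ∃ N : Subgroup G, N.Normal ∧ Odd N.index ∧ Nonempty (↥N ≃* Cfsg.PSU 3 F (2 ^ n)) := by
  obtain ⟨t, Q, hS, hQ, -⟩ := SERegular.exists_regular hc hne
  exact psu_of_setup hS (exists_commuting hc) hQ S hn hF P e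

/-- Version for a soluble strongly embedded subgroup of core one. -/
theorem psu_of_se_solvable {H : Subgroup G} (hH : Cfsg.IsStronglyEmbedded H) (hcore : H.normalCore = ⊥)
    [Group.IsSolvable H]
    (hcomm : ∀ s t : G, s ∈ H → t ∈ H → orderOf s = 2 → orderOf t = 2 → s * t = t * s)
    (htwo : ∃ s t : G, s ∈ H ∧ t ∈ H ∧ orderOf s = 2 ∧ orderOf t = 2 ∧ s ≠ t)
    (S : Sylow 2 G) {F : Type w} [Field F] [Fintype F] {n : ℕ} (hn : 2 ≤ n)
    (hF : Fintype.card F = (2 ^ n) ^ 2) (P : Sylow 2 (Cfsg.PSU 3 F (2 ^ n)))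
    (e : Nonempty (↥(S : Subgroup G) ≃* ↥(P : Subgroup (Cfsg.PSU 3 F (2 ^ n))))) :
    ∃ N : Subgroup G, N.Normal ∧ Odd N.index ∧ Nonempty (↥N ≃* Cfsg.PSU 3 F (2 ^ n)) := by
  haveI : FaithfulSMul G (G ⧸ H) := by
    refine ⟨fun {g g'} h => ?_⟩
    have hker : g'⁻¹ * g ∈ (MulAction.toPermHom G (G ⧸ H)).ker := by
      rw [MonoidHom.mem_ker]
      refine Equiv.ext fun x => ?_
      show (g'⁻¹ * g) • x = x
      rw [mul_smul, h x, inv_smul_smul]
    rw [← Subgroup.normalCore_eq_ker, hcore, Subgroup.mem_bot, inv_mul_eq_one] at hker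
    exact hker.symm
  obtain ⟨g, hg⟩ : ∃ g : G, g ∉ H := by
    by_contra h
    push Not at h
    exact hH.1 (eq_top_iff.2 fun g _ => h g)
  exact psu_of_cfg (SETrans.cfg_of_se_solvable hH hcomm htwo)
    ⟨(g : G ⧸ H), fun e => hg (by rw [QuotientGroup.eq, mul_one, inv_mem_iff] at e; exact e)⟩ S hn hF P e

end Cfsg.Agent.SEBender
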